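import Cfsg.Agent.H506.Tits.StmtsB
import Cfsg.Agent.H263.TW.Chain
import Cfsg.Agent.H115.Tits.Kill
import Cfsg.Agent.S0493

/-!
# S3414, case (B), the almost simple point stabilizer: `StBAS` (helper272)

For `v ≠ w` in `Γ(x)` the group `E_v = K x ⊓ K v` is not contained in `K w`; the image on `Γ(w)` of a normal subgroup of
`K x` not contained in `K w` contains the simple group `N`.  Hence `|N| ^ s ≤ |E_y| ≤ t ^ (m - 1) s ^ (m - 2) ≤ s ^ 8`
by Higman's inequality, against `60 ≤ |N|`.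
-/

set_option autoImplicit false
set_option linter.unusedSectionVars false

namespace Cfsg.Agent.H272.TP

open Subgroup Cfsg.Agent.H873.Tits Cfsg.Agent.H263.TW Cfsg.Agent.H506.Tits

universe u v

/-- a normal simple subgroup `N` of `A` with trivial centralizer is contained in every nontrivial `X ≤ A` normalised by `N` -/
theorem simple_le {M : Type*} [Group M] {A N X : Subgroup M} (hNA : N ≤ A) (hN : (N.subgroupOf A).Normal)
    (hs : IsSimpleGroup N) (hC : Subgroup.centralizer (N : Set M) ⊓ A = ⊥) (hXA : X ≤ A)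
    (hX : ∀ n ∈ N, ∀ x ∈ X, n * x * n⁻¹ ∈ X) (hne : X ≠ ⊥) : N ≤ X := by
  have hXN : (X.subgroupOf N).Normal := by
    refine ⟨fun a ha n => ?_⟩
    rw [mem_subgroupOf] at ha ⊢
    exact hX n n.2 a ha
  rcases hs.eq_bot_or_eq_top_of_normal _ hXN with h | h
  · exfalso
    apply hne
    rw [eq_bot_iff]
    intro x hx
    rw [← hC]
    refine mem_inf.2 ⟨mem_centralizer_iff.2 ?_, hXA hx⟩
    intro n hn
    have h1 : x * n * x⁻¹ ∈ N := by
      have := hN.conj_mem ⟨n, hNA hn⟩ (mem_subgroupOf.2 hn) ⟨x, hXA hx⟩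
      exact mem_subgroupOf.1 this
    have h2 : x * n * x⁻¹ * n⁻¹ ∈ X := by
      have h3 := mul_mem hx (hX n hn _ (inv_mem hx))
      have h4 : x * (n * x⁻¹ * n⁻¹) = x * n * x⁻¹ * n⁻¹ := by group
      rwa [h4] at h3
    have h5 : (⟨x * n * x⁻¹ * n⁻¹, mul_mem h1 (inv_mem hn)⟩ : N) ∈ X.subgroupOf N := mem_subgroupOf.2 h2
    rw [h, mem_bot] at h5
    have h6 : x * n * x⁻¹ * n⁻¹ = 1 := congrArg Subtype.val h5
    rw [mul_inv_eq_one, mul_inv_eq_iff_eq_mul] at h6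
    exact h6.symm
  · exact subgroupOf_eq_top.1 h

variable {G : Type u} [Group G] {V : Type v} [MulAction G V] {P : Pol G V}

/-- the normal subgroups of `K x` not contained in `K v` -/
def Sim (P : Pol G V) (c : ℕ) (x v : V) : Prop :=
  ∀ X : Subgroup G, X ≤ P.K x → (∀ k ∈ P.K x, ∀ a ∈ X, k * a * k⁻¹ ∈ X) → ¬ X ≤ P.K v →
    c * Nat.card ↥(X ⊓ P.K v) ≤ Nat.card X ∧
    ∀ Y : Subgroup G, Y ≤ P.K x → (∀ k ∈ P.K x, ∀ a ∈ Y, k * a * k⁻¹ ∈ Y) → ¬ Y ≤ P.K v → ¬ X ⊓ Y ≤ P.K v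

theorem K_le_S' {x y : V} (h : P.adj x y) : P.K x ≤ P.S y := fun _ hg => mem_S.2 (hg.2 y h)

theorem img_ne_bot {y : V} {X : Subgroup G} (hX : X ≤ P.S y) (h : ¬ X ≤ P.K y) : P.img y X ≠ ⊥ := by
  intro h1
  apply h
  intro g hg
  rw [← toPerm_eq_one (hX hg)]
  have h2 : P.toPerm y ⟨g, hX hg⟩ ∈ P.img y X := mem_img.2 ⟨g, hX hg, hg, rfl⟩
  rw [h1, mem_bot] at h2
  exact h2

theorem conj_K {x : V} {g k : G} (hg : g ∈ P.S x) (hk : k ∈ P.K x) : g * k * g⁻¹ ∈ P.K x :=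
  H115.Tits.K_conj' P (mem_S.1 hg) hk

theorem sim_self [Finite G] {x y : V} (hyx : P.adj y x) (hne : ¬ P.K x ≤ P.K y)
    {N : Subgroup (Equiv.Perm {w : V // P.adj y w})} (hNA : N ≤ Stb (P.L y) ⟨x, hyx⟩)
    (hN : (N.subgroupOf (Stb (P.L y) ⟨x, hyx⟩)).Normal) (hs : IsSimpleGroup N) (hna : ¬ IsMulCommutative N)
    (hC : Subgroup.centralizer (N : Set (Equiv.Perm {w : V // P.adj y w})) ⊓ Stb (P.L y) ⟨x, hyx⟩ = ⊥) :
    Sim P (Nat.card N) x y := by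
  have hKS : P.K x ≤ P.S y := K_le_S' (P.symm hyx)
  have himg : ∀ X : Subgroup G, X ≤ P.K x → P.img y X ≤ Stb (P.L y) ⟨x, hyx⟩ := by
    intro X hX
    rw [← img_S hyx]
    exact img_mono (hX.trans (P.K_le_S x))
  -- `N ≤ img y (K x)`
  have h1 : N ≤ P.img y (P.K x) := by
    refine simple_le hNA hN hs hC (himg _ le_rfl) ?_ (img_ne_bot hKS hne)
    intro n hn a ha
    have hn' := hNA hn
    rw [← img_S hyx] at hn'
    obtain ⟨g, hg, hgx, rfl⟩ := mem_img.1 hn'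
    obtain ⟨k, hk, hkx, rfl⟩ := mem_img.1 ha
    refine mem_img.2 ⟨g * k * g⁻¹, mul_mem (mul_mem hg hk) (inv_mem hg), conj_K hgx hkx, ?_⟩
    rw [← map_inv, ← map_mul, ← map_mul]
    rfl
  have h2 : ∀ X : Subgroup G, X ≤ P.K x → (∀ k ∈ P.K x, ∀ a ∈ X, k * a * k⁻¹ ∈ X) → ¬ X ≤ P.K y → N ≤ P.img y X := by
    intro X hX hXn hXne
    refine simple_le hNA hN hs hC (himg _ hX) ?_ (img_ne_bot (hX.trans hKS) hXne)
    intro n hn a ha
    obtain ⟨g, hg, hgx, rfl⟩ := mem_img.1 (h1 hn)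
    obtain ⟨k, hk, hkx, rfl⟩ := mem_img.1 ha
    refine mem_img.2 ⟨g * k * g⁻¹, mul_mem (mul_mem hg hk) (inv_mem hg), hXn g hgx k hkx, ?_⟩
    rw [← map_inv, ← map_mul, ← map_mul]
    rfl
  intro X hX hXn hXne
  refine ⟨?_, ?_⟩
  · rw [← card_img (hX.trans hKS)]
    have : Finite {w : V // P.adj y w} := finite_nb P y
    exact Nat.mul_le_mul_right _ (Subgroup.card_le_of_le (h2 X hX hXn hXne))
  · intro Y hY hYn hYne hXY
    apply hna
    refine ⟨⟨fun a b => Subtype.ext ?_⟩⟩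
    obtain ⟨g, hg, hgX, hga⟩ := mem_img.1 (h2 X hX hXn hXne a.2)
    obtain ⟨k, hk, hkY, hkb⟩ := mem_img.1 (h2 Y hY hYn hYne b.2)
    have h3 : g * k * g⁻¹ * k⁻¹ ∈ X ⊓ Y := by
      refine mem_inf.2 ⟨?_, mul_mem (hYn g (hX hgX) k hkY) (inv_mem hkY)⟩
      have h4 := mul_mem hgX (hXn k (hY hkY) _ (inv_mem hgX))
      have h5 : g * (k * g⁻¹ * k⁻¹) = g * k * g⁻¹ * k⁻¹ := by group
      rwa [h5] at h4
    have h6 : P.toPerm y (⟨g, hg⟩ * ⟨k, hk⟩ * ⟨g, hg⟩⁻¹ * ⟨k, hk⟩⁻¹) = 1 :=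
      (toPerm_eq_one (mul_mem (mul_mem (mul_mem hg hk) (inv_mem hg)) (inv_mem hk))).2 (hXY h3)
    rw [map_mul, map_mul, map_mul, map_inv, map_inv, hga, hkb, mul_inv_eq_one, mul_inv_eq_iff_eq_mul] at h6
    exact h6

theorem sim_smul [Finite G] {c : ℕ} {x y : V} (h : Sim P c x y) {g : G} (hg : g ∈ P.S x) : Sim P c x (g • y) := by
  have hK : ∀ a : G, a ∈ P.K (g • y) ↔ g⁻¹ * a * g ∈ P.K y := by
    intro a
    constructor
    · intro ha
      have := H115.Tits.K_conj P g⁻¹ ha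
      rwa [inv_smul_smul, inv_inv] at this
    · intro ha
      have := H115.Tits.K_conj P g ha
      have h1 : g * (g⁻¹ * a * g) * g⁻¹ = a := by group
      rwa [h1] at this
  let cj : Subgroup G → Subgroup G := fun X => X.comap (MulAut.conj g).toMonoidHom
  have hcj : ∀ (X : Subgroup G) (a : G), a ∈ cj X ↔ g * a * g⁻¹ ∈ X := fun X a => Iff.rfl
  have hcard : ∀ X : Subgroup G, Nat.card (cj X) = Nat.card X := by
    intro X
    refine Nat.card_congr ⟨fun a => ⟨g * a * g⁻¹, (hcj X _).1 a.2⟩, fun a => ⟨g⁻¹ * a * g, ?_⟩, ?_, ?_⟩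
    · rw [hcj]
      have h1 : g * (g⁻¹ * a * g) * g⁻¹ = (a : G) := by group
      rw [h1]
      exact a.2
    · intro a
      apply Subtype.ext
      show g⁻¹ * (g * a * g⁻¹) * g = a
      group
    · intro a
      apply Subtype.ext
      show g * (g⁻¹ * a * g) * g⁻¹ = a
      group
  have hle : ∀ X : Subgroup G, X ≤ P.K x → cj X ≤ P.K x := by
    intro X hX a ha
    have h1 := conj_K (inv_mem hg) (hX ((hcj X a).1 ha))
    have h2 : g⁻¹ * (g * a * g⁻¹) * g⁻¹⁻¹ = a := by group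
    rwa [h2] at h1
  have hnm : ∀ X : Subgroup G, (∀ k ∈ P.K x, ∀ a ∈ X, k * a * k⁻¹ ∈ X) →
      ∀ k ∈ P.K x, ∀ a ∈ cj X, k * a * k⁻¹ ∈ cj X := by
    intro X hX k hk a ha
    rw [hcj] at ha ⊢
    have h1 := hX _ (conj_K hg hk) _ ha
    have h2 : g * k * g⁻¹ * (g * a * g⁻¹) * (g * k * g⁻¹)⁻¹ = g * (k * a * k⁻¹) * g⁻¹ := by group
    rwa [h2] at h1
  have hin : ∀ X : Subgroup G, ¬ X ≤ P.K (g • y) → ¬ cj X ≤ P.K y := by
    intro X hX h1
    apply hX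
    intro a ha
    rw [hK]
    apply h1
    rw [hcj]
    have h2 : g * (g⁻¹ * a * g) * g⁻¹ = a := by group
    rwa [h2]
  intro X hX hXn hXne
  obtain ⟨h1, h2⟩ := h (cj X) (hle X hX) (hnm X hXn) (hin X hXne)
  refine ⟨?_, ?_⟩
  · have h3 : cj X ⊓ P.K y = cj (X ⊓ P.K (g • y)) := by
      ext a
      rw [mem_inf, hcj, hcj, mem_inf, hK]
      have h4 : g⁻¹ * (g * a * g⁻¹) * g = a := by group
      rw [h4]
    rwa [h3, hcard, hcard] at h1
  · intro Y hY hYn hYne hXY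
    refine h2 (cj Y) (hle Y hY) (hnm Y hYn) (hin Y hYne) ?_
    rintro a ⟨ha, ha'⟩
    have h3 : g * a * g⁻¹ ∈ P.K (g • y) := hXY ⟨(hcj X a).1 ha, (hcj Y a).1 ha'⟩
    rw [hK] at h3
    have h4 : g⁻¹ * (g * a * g⁻¹) * g = a := by group
    rwa [h4] at h3

/-- `E_v` is not contained in `K w` -/
theorem E_not_le (F : Facts P) {b : Bool} (hB : CaseB P b) {x y : V} (hyx : P.adj y x) (hy : P.tp y = b)
    (hE : P.K x ⊓ P.K y ≠ ⊥) {v w : V} (hv : P.adj x v) (hw : P.adj x w) (hvw : v ≠ w) : ¬ P.K x ⊓ P.K v ≤ P.K w := by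
  intro h
  have hxy := P.symm hyx
  -- the same for all pairs
  have hall : ∀ v' w' : V, P.adj x v' → P.adj x w' → v' ≠ w' → P.K x ⊓ P.K v' ≤ P.K w' := by
    intro v' w' hv' hw' hne a ha
    obtain ⟨g, hg, h1, h2⟩ := F.two_trans hv hw hvw hv' hw' hne
    have h3 : g⁻¹ * a * g⁻¹⁻¹ ∈ P.K x ⊓ P.K v := by
      refine ⟨conj_K (inv_mem hg) ha.1, ?_⟩
      have := H115.Tits.K_conj P g⁻¹ ha.2
      rwa [← h1, inv_smul_smul] at this
    have h4 := H115.Tits.K_conj P g (h h3)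
    rw [h2] at h4
    have h5 : g * (g⁻¹ * a * g⁻¹⁻¹) * g⁻¹ = a := by group
    rwa [h5] at h4
  apply hE
  refine F.core (P.K x ⊓ P.K y) hxy (le_inf (inf_le_left.trans (P.K_le_S x)) (inf_le_right.trans (P.K_le_S y))) ?_ ?_
  · intro g hg a ha
    refine ⟨conj_K hg ha.1, ?_⟩
    by_cases hgy : g • y = y
    · have := H115.Tits.K_conj P g ha.2
      rwa [hgy] at this
    · have hxgy : P.adj x (g • y) := H115.Tits.adj_smul_of_fix P (mem_S.1 hg) hxy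
      exact hall (g • y) y hxgy hxy hgy ⟨conj_K hg ha.1, H115.Tits.K_conj P g ha.2⟩
  · intro g hg a ha
    exact H115.Tits.E_conj hB hy hyx (mem_S.1 hg) ha

/-- the chain -/
theorem pow_le_card [Finite G] (F : Facts P) {b : Bool} (hB : CaseB P b) {x y : V} (hyx : P.adj y x) (hy : P.tp y = b)
    (hE : P.K x ⊓ P.K y ≠ ⊥) {c : ℕ} (hS : Sim P c x y) (T : Finset {w : V // P.adj x w}) (hT : ∀ w ∈ T, w.1 ≠ y) :
    ∃ D : Subgroup G, D ≤ P.K x ∧ (∀ k ∈ P.K x, ∀ a ∈ D, k * a * k⁻¹ ∈ D) ∧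
      (∀ w, P.adj x w → w ≠ y → (∀ v ∈ T, v.1 ≠ w) → ¬ D ≤ P.K w) ∧
      c ^ T.card * Nat.card D ≤ Nat.card ↥(P.K x ⊓ P.K y) := by
  classical
  have hxy := P.symm hyx
  have hKv : ∀ v : V, P.adj x v → ∀ k ∈ P.K x, ∀ a ∈ P.K x ⊓ P.K v, k * a * k⁻¹ ∈ P.K x ⊓ P.K v := by
    intro v hv k hk a ha
    exact ⟨conj_K (P.K_le_S x hk) ha.1, conj_K (K_le_S' hv hk) ha.2⟩
  induction T using Finset.induction_on with
  | empty =>
    refine ⟨P.K x ⊓ P.K y, inf_le_left, hKv y hxy, fun w hw hwy _ => E_not_le F hB hyx hy hE hxy hw (Ne.symm hwy), ?_⟩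
    rw [Finset.card_empty, pow_zero, one_mul]
  | @insert v T hvT ih =>
    obtain ⟨D, hD1, hD2, hD3, hD4⟩ := ih (fun w hw => hT w (Finset.mem_insert_of_mem hw))
    have hvy : v.1 ≠ y := hT v (Finset.mem_insert_self v T)
    have hsim : ∀ w : V, P.adj x w → Sim P c x w := by
      intro w hw
      by_cases hwy : w = y
      · rw [hwy]; exact hS
      · obtain ⟨g, hg, hgw, -⟩ := F.two_trans hxy hw (Ne.symm hwy) hw hxy hwy
        rw [← hgw]
        exact sim_smul hS hg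
    have hDv : ¬ D ≤ P.K v.1 := hD3 v.1 v.2 hvy (fun w hw h => hvT (by rwa [← Subtype.ext h]))
    refine ⟨D ⊓ P.K v.1, inf_le_left.trans hD1, ?_, ?_, ?_⟩
    · intro k hk a ha
      exact ⟨hD2 k hk a ha.1, conj_K (K_le_S' v.2 hk) ha.2⟩
    · intro w hw hwy hwT hle
      have h1 : D ⊓ (P.K x ⊓ P.K v.1) ≤ P.K w := by
        rintro a ⟨ha, -, ha'⟩
        exact hle ⟨ha, ha'⟩
      exact (hsim w hw D hD1 hD2 (hD3 w hw hwy (fun u hu => hwT u (Finset.mem_insert_of_mem hu)))).2 (P.K x ⊓ P.K v.1)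
        inf_le_left (hKv v.1 v.2) (E_not_le F hB hyx hy hE v.2 hw (hwT v (Finset.mem_insert_self v T))) h1
    · have h1 := (hsim v.1 v.2 D hD1 hD2 hDv).1
      rw [Finset.card_insert_of_notMem hvT, pow_succ, mul_assoc]
      exact (Nat.mul_le_mul_left _ h1).trans hD4

theorem pow_lt {s : ℕ} (hs : 2 ≤ s) : s ^ 8 < 60 ^ s := by
  induction s using Nat.strong_induction_on with
  | _ s ih =>
    rcases Nat.lt_or_ge s 5 with h | h
    · interval_cases s <;> norm_num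
    · obtain ⟨r, rfl⟩ : ∃ r, s = r + 1 := ⟨s - 1, by omega⟩
      have h1 := ih r (by omega) (by omega)
      have h2 : (r + 1) ^ 8 ≤ 60 * r ^ 8 := by
        have h3 : 4 * (r + 1) ≤ 5 * r + 0 := by omega
        have h4 : (4 * (r + 1)) ^ 8 ≤ (5 * r) ^ 8 := Nat.pow_le_pow_left (by omega) 8
        rw [mul_pow, mul_pow] at h4
        norm_num at h4
        omega
      rw [pow_succ 60 r]
      omega

/-- **`StBAS`** -/
theorem st_bas : StBAS.{u, v} := by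
  intro G _ _ V _ _ P F Nm b hB x y hxy hy hne _ hE N hNA hN hs hna hC
  classical
  have hxy' := P.symm hxy
  have hsim := sim_self hxy hne hNA hN hs hna hC
  have h60 : 60 ≤ Nat.card N := by
    by_contra hcon
    have : Finite (Equiv.Perm {w : V // P.adj y w}) := inferInstance
    have hc : ¬ IsCyclic N := fun h => hna h.isMulCommutative
    have := Cfsg.Agent.S0493.result hc (by omega)
    omega
  have hfin : Fintype {w : V // P.adj x w} := Fintype.ofFinite _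
  have htx : P.tp x = !b := by rw [P.tp_adj hxy, hy]
  set T : Finset {w : V // P.adj x w} := Finset.univ.erase ⟨y, hxy'⟩ with hT
  have hTc : T.card = P.q (!b) := by
    rw [hT, Finset.card_erase_of_mem (Finset.mem_univ _), Finset.card_univ, ← Nat.card_eq_fintype_card, P.card_nb x, htx]
    rfl
  obtain ⟨D, -, -, -, hD⟩ := pow_le_card F hB hxy hy hE hsim T (fun w hw h => by
    rw [hT, Finset.mem_erase] at hw
    exact hw.1 (Subtype.ext h))
  rw [hTc] at hD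
  have hcard := F.caseB_card hB hy hxy'
  set s := P.q (!b) with hs'
  set t := P.q b with ht'
  have hs2 : 2 ≤ s := P.two_le _
  have ht2 : 2 ≤ t := P.two_le _
  have h1 : 60 ^ s ≤ Nat.card ↥(P.K x ⊓ P.K y) :=
    calc 60 ^ s ≤ Nat.card N ^ s := Nat.pow_le_pow_left h60 s
      _ ≤ Nat.card N ^ s * Nat.card D := Nat.le_mul_of_pos_right _ Nat.card_pos
      _ ≤ _ := hD
  have h2 : Nat.card ↥(P.K x ⊓ P.K y) ≤ t ^ (P.n / 2 - 1) * s ^ (P.n / 2 - 2) :=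
    Nat.le_of_dvd (Nat.mul_pos (Nat.pow_pos (by omega)) (Nat.pow_pos (by omega))) hcard
  have h3 : t ^ (P.n / 2 - 1) * s ^ (P.n / 2 - 2) ≤ s ^ 8 := by
    rcases P.hn with h | h | h
    · have h4 : t ≤ s ^ 2 := Nm.hig48 (Or.inl h) b
      rw [h]
      calc t ^ (4 / 2 - 1) * s ^ (4 / 2 - 2) = t := by norm_num
        _ ≤ s ^ 2 := h4
        _ ≤ s ^ 8 := Nat.pow_le_pow_right (by omega) (by norm_num)
    · have h4 : t ≤ s ^ 3 := Nm.hig6 h b
      rw [h]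
      calc t ^ (6 / 2 - 1) * s ^ (6 / 2 - 2) = t ^ 2 * s := by norm_num
        _ ≤ (s ^ 3) ^ 2 * s := Nat.mul_le_mul_right _ (Nat.pow_le_pow_left h4 2)
        _ = s ^ 7 := by ring
        _ ≤ s ^ 8 := Nat.pow_le_pow_right (by omega) (by norm_num)
    · have h4 : t ≤ s ^ 2 := Nm.hig48 (Or.inr h) b
      rw [h]
      calc t ^ (8 / 2 - 1) * s ^ (8 / 2 - 2) = t ^ 3 * s ^ 2 := by norm_num
        _ ≤ (s ^ 2) ^ 3 * s ^ 2 := Nat.mul_le_mul_right _ (Nat.pow_le_pow_left h4 3)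
        _ = s ^ 8 := by ring
  have h5 := pow_lt hs2
  omega

end Cfsg.Agent.H272.TP
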