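import Cfsg.Agent.H873.Tits.Stmts
import Cfsg.Agent.Lib.Cores

/-!
# S3414, step (*): the stabilizers in `K y` of the `O_p (K y)`-orbits on the `w ~ x`, `w ≠ y` (helper272)
-/

set_option autoImplicit false

open Subgroup Cfsg

namespace Cfsg.Agent.H272.TP

open Cfsg.Agent.H873.Tits

universe u v

section abstr

variable {G : Type u} [Group G]

/-- a `p`-subgroup of `K` normalized by `K` is contained in the largest `p`-subgroup of `K` normal in `A` -/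
theorem mem_of_normal {A K Q Q' : Subgroup G} {p : ℕ} [Finite G] (hKA : K ≤ A) (hK : ∀ a ∈ A, ∀ k ∈ K, a * k * a⁻¹ ∈ K)
    (hmax : ∀ R : Subgroup G, R ≤ K → (R.subgroupOf A).Normal → IsPGroup p ↥R → R ≤ Q)
    (hQ' : IsPGroup p ↥Q') (hn : ∀ k ∈ K, ∀ e ∈ Q', k * e * k⁻¹ ∈ Q') {e : G} (he : e ∈ Q') (heK : e ∈ K) : e ∈ Q := by
  let N : Subgroup ↥A := K.subgroupOf A
  have hN : N.Normal := ⟨fun n hn a => hK a a.2 n hn⟩
  let T : Subgroup ↥N := Q'.comap (A.subtype.comp N.subtype)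
  have hT : T.Normal := ⟨fun t ht n => hn _ n.2 _ ht⟩
  have hTp : IsPGroup p ↥T := by
    rintro ⟨t, ht⟩
    obtain ⟨k, hk⟩ := hQ' ⟨((t : ↥A) : G), ht⟩
    have hk' : ((t : ↥A) : G) ^ p ^ k = 1 := congrArg Subtype.val hk
    refine ⟨k, Subtype.ext (Subtype.ext (Subtype.ext ?_))⟩
    exact hk'
  have h1 : T ≤ pCore p ↥N := Lib.Cores.le_pCore hT hTp
  let R : Subgroup G := (N ⊓ pCore p ↥A).map A.subtype
  have hR : R ≤ Q := by
    apply hmax
    · rintro _ ⟨a, ha, rfl⟩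
      exact ha.1
    · have h2 : R.subgroupOf A = N ⊓ pCore p ↥A := by
        show ((N ⊓ pCore p ↥A).map A.subtype).comap A.subtype = _
        exact comap_map_eq_self_of_injective A.subtype_injective _
      rw [h2]
      have := Lib.Cores.pCore_normal (G := ↥A) p
      infer_instance
    · exact ((Lib.Cores.pCore_isPGroup (G := ↥A) p).to_le inf_le_right).map _
  apply hR
  have h3 : (⟨⟨e, hKA heK⟩, heK⟩ : ↥N) ∈ pCore p ↥N := h1 he
  have h4 := Lib.Cores.map_subtype_pCore p hN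
  have h5 : (⟨e, hKA heK⟩ : ↥A) ∈ (pCore p ↥N).map N.subtype := ⟨_, h3, rfl⟩
  rw [h4] at h5
  exact ⟨⟨e, hKA heK⟩, by simpa [inf_comm] using h5, rfl⟩

end abstr

section star

variable {G : Type u} [Group G] {V : Type v} [MulAction G V]

/-- `g` fixes the `Q`-orbit of `w` -/
def Fx (Q : Subgroup G) (g : G) (w : V) : Prop := ∃ a ∈ Q, g • w = a • w

/-- transport by an element normalizing `Q` -/
theorem Fx.conj {Q : Subgroup G} {h g : G} {w : V} (hn : ∀ q ∈ Q, h * q * h⁻¹ ∈ Q) (hf : Fx Q g w) :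
    Fx Q (h * g * h⁻¹) (h • w) := by
  obtain ⟨a, ha, e⟩ := hf
  refine ⟨h * a * h⁻¹, hn a ha, ?_⟩
  rw [mul_smul, inv_smul_smul, mul_smul, e, mul_smul, inv_smul_smul, mul_smul]

/-- changing `g` by an element of `Q` -/
theorem Fx.mul {Q : Subgroup G} {e g : G} {w : V} (he : e ∈ Q) (hf : Fx Q g w) : Fx Q (e * g) w := by
  obtain ⟨a, ha, h⟩ := hf
  exact ⟨e * a, mul_mem he ha, by rw [mul_smul, h, mul_smul]⟩

end star

/-- **(*)** -/
theorem st_star : StStar.{u, v} := by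
  intro G _ _ V _ _ P F p hA x y w₁ w₂ hxy hw₁ hw₁y hw₂ hw₂y Q hQK hQn hQp hmax g hg hfx
  have hKS : P.K y ≤ P.S y := P.K_le_S y
  have hKn : ∀ a ∈ P.S y, ∀ k ∈ P.K y, a * k * a⁻¹ ∈ P.K y := by
    intro a ha k hk
    have ha' : a • y = y := ha
    have hai : a⁻¹ • y = y := inv_smul_eq_iff.2 ha'.symm
    refine ⟨?_, fun w hw => ?_⟩
    · rw [mul_smul, mul_smul, hai, hk.1, ha']
    · have h1 : P.adj y (a⁻¹ • w) := by
        have := P.smul_adj a⁻¹ hw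
        rwa [hai] at this
      rw [mul_smul, mul_smul, hk.2 _ h1, smul_inv_smul]
  have hQn' : ∀ a ∈ P.S y, ∀ q ∈ Q, a * q * a⁻¹ ∈ Q := by
    intro a ha q hq
    have h1 := hQn.conj_mem ⟨q, hKS (hQK hq)⟩ hq ⟨a, ha⟩
    exact h1
  -- the element `a` moving `x`
  obtain ⟨x', a, hx'y, haS, hax, Q', hQ'p, haQ', hQ'n⟩ : ∃ (x' : V) (a : G), P.adj y x' ∧ a ∈ P.S y ∧ a • x ≠ x ∧
      ∃ Q' : Subgroup G, IsPGroup p ↥Q' ∧ a ∈ Q' ∧ ∀ k ∈ P.S x', ∀ e ∈ Q', k * e * k⁻¹ ∈ Q' := by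
    obtain ⟨Q₀, hQ₀K, hQ₀n, hQ₀p, hnle⟩ := hA.big (x := y) (y := x) (P.symm hxy)
    obtain ⟨a, ha, hay⟩ := Set.not_subset.1 hnle
    have hax : a • x = x ∧ ∀ w, P.adj x w → a • w = w := hQ₀K ha
    have hay' : a • y = y := hax.2 y hxy
    -- a moved neighbour
    obtain ⟨x₀, hx₀, hne⟩ : ∃ x₀, P.adj y x₀ ∧ a • x₀ ≠ x₀ := by
      by_contra hcon
      push Not at hcon
      exact hay ⟨hay', hcon⟩
    have hx₀x : x₀ ≠ x := by rintro rfl; exact hne hax.1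
    -- an element of `S y` moving `x₀` to `x` (and `x` to `x₀`)
    obtain ⟨h, hh, h1, h2⟩ := F.two_trans hx₀ (P.symm hxy) hx₀x (P.symm hxy) hx₀ hx₀x.symm
    have hh' : h • y = y := hh
    have hhi : h⁻¹ • y = y := inv_smul_eq_iff.2 hh'.symm
    refine ⟨x₀, h * a * h⁻¹, hx₀, ?_, ?_, Q₀.map (MulAut.conj h).toMonoidHom, hQ₀p.map _, ⟨a, ha, rfl⟩, ?_⟩
    · show (h * a * h⁻¹) • y = y
      rw [mul_smul, mul_smul, hhi, hay', hh']
    · intro h3
      apply hne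
      rw [← h1, mul_smul, mul_smul, inv_smul_smul] at h3
      exact smul_left_cancel h h3
    · rintro k hk _ ⟨e, he, rfl⟩
      refine ⟨(h⁻¹ * k * h) * e * (h⁻¹ * k * h)⁻¹, ?_, ?_⟩
      · have h4 : h⁻¹ * k * h ∈ P.S x := by
          show (h⁻¹ * k * h) • x = x
          have hk' : k • x₀ = x₀ := hk
          rw [mul_smul, mul_smul, h2, hk', inv_smul_eq_iff, h2]
        have h5 := hQ₀n.conj_mem ⟨e, P.K_le_S x (hQ₀K he)⟩ he ⟨_, h4⟩
        exact h5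
      · show h * ((h⁻¹ * k * h) * e * (h⁻¹ * k * h)⁻¹) * h⁻¹ = k * (h * e * h⁻¹) * k⁻¹
        group
  have haS' : a • y = y := haS
  have hai : a⁻¹ ∈ P.S y := inv_mem haS
  -- commutators
  have hcomm : ∀ k ∈ P.K y, a * k * a⁻¹ * k⁻¹ ∈ Q := by
    intro k hk
    have hkx' : k ∈ P.S x' := hk.2 x' hx'y
    refine mem_of_normal hKS hKn hmax hQ'p (fun k hk e he => hQ'n k (hk.2 x' hx'y) e he) ?_ ?_
    · have h1 : k * a⁻¹ * k⁻¹ ∈ Q' := hQ'n k hkx' _ (inv_mem haQ')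
      have e : a * k * a⁻¹ * k⁻¹ = a * (k * a⁻¹ * k⁻¹) := by group
      rw [e]
      exact mul_mem haQ' h1
    · exact mul_mem (hKn a haS k hk) (inv_mem hk)
  -- `M(w) = M(a w)`
  have htr : ∀ {k : G} {w : V}, k ∈ P.K y → Fx Q k w → Fx Q k (a • w) := by
    intro k w hk hf
    have h1 := Fx.conj (h := a) (fun q hq => hQn' a haS q hq) hf
    have h2 : k = (a * k * a⁻¹ * k⁻¹)⁻¹ * (a * k * a⁻¹) := by group
    rw [h2]
    exact Fx.mul (inv_mem (hcomm k hk)) h1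
  have htr' : ∀ {k : G} {w : V}, k ∈ P.K y → Fx Q k (a • w) → Fx Q k w := by
    intro k w hk hf
    have h1 := Fx.conj (h := a⁻¹) (fun q hq => hQn' a⁻¹ hai q hq) hf
    rw [inv_smul_smul, inv_inv] at h1
    -- `a⁻¹ k a ∈ Q k`
    have h3 : a⁻¹ * k * a ∈ P.K y := by
      have := hKn a⁻¹ hai k hk
      rwa [inv_inv] at this
    have h4 := hcomm _ h3
    have h5 : a * (a⁻¹ * k * a) * a⁻¹ * (a⁻¹ * k * a)⁻¹ = k * (a⁻¹ * k * a)⁻¹ := by group
    rw [h5] at h4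
    have h6 : k = (k * (a⁻¹ * k * a)⁻¹) * (a⁻¹ * k * a) := by group
    rw [h6]
    exact Fx.mul h4 h1
  -- pair transitivity
  set z := a • x with hz
  have hzy : P.adj z y := by
    have := P.smul_adj a hxy
    rwa [haS'] at this
  have hu : P.adj z (a • w₁) := P.smul_adj a hw₁
  have huy : a • w₁ ≠ y := by
    intro h
    apply hw₁y
    rw [← haS'] at h
    exact smul_left_cancel a h
  obtain ⟨h, hh, h1, h2⟩ := F.pair_trans hxy hzy (Ne.symm hax) hw₁ hw₁y hu huy hw₂ hw₂y hu huy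
  have hhy : h ∈ P.S y := hh.1.2
  have hf1 : Fx Q g (a • w₁) := htr hg hfx
  -- transport by `h`: `M(w₂) = h M(w₁) h⁻¹`
  have hg' : h⁻¹ * g * h ∈ P.K y := by
    have := hKn h⁻¹ (inv_mem hhy) g hg
    rwa [inv_inv] at this
  have h3 : Fx Q (h⁻¹ * g * h) (a • w₁) := by
    have h4 := Fx.conj (h := h⁻¹) (fun q hq => hQn' h⁻¹ (inv_mem hhy) q hq) hf1
    rw [inv_inv] at h4
    have h5 : h⁻¹ • (a • w₁) = a • w₁ := inv_smul_eq_iff.2 h2.symm
    rwa [h5] at h4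
  have h4 : Fx Q (h⁻¹ * g * h) w₁ := htr' hg' h3
  have h5 := Fx.conj (h := h) (fun q hq => hQn' h hhy q hq) h4
  rw [h1] at h5
  have h6 : h * (h⁻¹ * g * h) * h⁻¹ = g := by group
  rw [h6] at h5
  exact h5

end Cfsg.Agent.H272.TP
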